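import Groth.Agent.Lib.ModTensor.Local

/-!
# Relations which are locally trivial

If every relation between sections of a presheaf of modules `F` is locally trivial, then so is every
finite family of relations, and tensoring with `F` turns sectionwise injective maps into locally
injective maps.
-/

universe v₁ u₁ u

open CategoryTheory MonoidalCategory Opposite TensorProduct

namespace Groth.Agent.Lib.FlatCrit.Rel

open Groth.Agent.Lib.ModTensor.Local

variable {C : Type u₁} [Category.{v₁} C] (J : GrothendieckTopology C) {R : Cᵒᵖ ⥤ CommRingCat.{u}}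
  (F : PresheafOfModules.{u} (R ⋙ forget₂ _ RingCat))

/-- Every relation between sections of `F` is locally trivial. -/
def Crit : Prop :=
  ∀ (U : C) (n : ℕ) (f : Fin n → R.obj (op U)) (s : Fin n → F.obj (op U)),
    ∑ j, f j • s j = 0 →
    ∃ S ∈ J U, ∀ ⦃V : C⦄ (g : V ⟶ U), S g →
      ∃ (l : ℕ) (t : Fin l → F.obj (op V)) (a : Fin n → Fin l → R.obj (op V)),
        (∀ j, res F g.op (s j) = ∑ k, a j k • t k) ∧
        (∀ k, ∑ j, a j k * (R.map g.op).hom (f j) = 0)

/-- The relations `A j` between the sections `s` become trivial after restriction along `g`. -/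
def Triv {X Y : Cᵒᵖ} {ι : Type} [Fintype ι] {k : ℕ} (A : Fin k → ι → R.obj X) (s : ι → F.obj X)
    (g : X ⟶ Y) : Prop :=
  ∃ (l : ℕ) (t : Fin l → F.obj Y) (a : ι → Fin l → R.obj Y),
    (∀ i, res F g (s i) = ∑ m, a i m • t m) ∧
    ∀ j m, ∑ i, a i m * (R.map g).hom (A j i) = 0

lemma map_comp_apply {X Y Z : Cᵒᵖ} (g : X ⟶ Y) (h : Y ⟶ Z) (r : R.obj X) :
    (R.map (g ≫ h)).hom r = (R.map h).hom ((R.map g).hom r) := by
  rw [R.map_comp]
  rfl

/-- The arrows along which given relations become trivial. -/
def trivSieve {U : C} {ι : Type} [Fintype ι] {k : ℕ} (A : Fin k → ι → R.obj (op U))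
    (s : ι → F.obj (op U)) : Sieve U where
  arrows _ g := Triv F A s g.op
  downward_closed := by
    rintro Y Z g ⟨l, t, a, hs, hA⟩ h
    refine ⟨l, fun m => res F h.op (t m), fun i m => (R.map h.op).hom (a i m),
      fun i => ?_, fun j m => ?_⟩
    · rw [op_comp, res_comp, hs, map_sum]
      simp only [res_smul]
    · simp only [op_comp, map_comp_apply, ← map_mul, ← map_sum, hA j m, map_zero]

variable {J F}

/-- Finitely many relations are simultaneously locally trivial. -/
theorem trivSieve_mem (hF : Crit J F) {k : ℕ} : ∀ {U : C} {ι : Type} [Fintype ι]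
    (A : Fin k → ι → R.obj (op U)) (s : ι → F.obj (op U)),
    (∀ j, ∑ i, A j i • s i = 0) → trivSieve F A s ∈ J U := by
  induction k with
  | zero =>
    intro U ι _ A s _
    refine J.superset_covering (fun Y g _ => ?_) (J.top_mem U)
    classical
    let e := Fintype.equivFin ι
    refine ⟨Fintype.card ι, fun m => res F g.op (s (e.symm m)),
      fun i m => if e i = m then 1 else 0, fun i => ?_, fun j => j.elim0⟩
    simp [ite_smul]
  | succ k ih =>
    intro U ι _ A s h
    let e := Fintype.equivFin ι
    obtain ⟨S, hS, hcov⟩ := hF U _ (fun i => A 0 (e.symm i)) (fun i => s (e.symm i))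
      ((e.symm.sum_comp (fun i => A 0 i • s i)).trans (h 0))
    refine J.transitive hS _ (fun Y g hg => ?_)
    obtain ⟨l, t, a', hs', h0'⟩ := hcov g hg
    let a : ι → Fin l → R.obj (op Y) := fun i => a' (e i)
    have hs : ∀ i, res F g.op (s i) = ∑ m, a i m • t m := fun i => by
      simpa [a] using hs' (e i)
    have h0 : ∀ m, ∑ i, a i m * (R.map g.op).hom (A 0 i) = 0 := fun m => by
      rw [← e.symm.sum_comp]
      simpa [a] using h0' m
    have hB : ∀ j : Fin k,
        ∑ m, (∑ i, a i m * (R.map g.op).hom (A j.succ i)) • t m = 0 := fun j => by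
      have := congrArg (res F g.op) (h j.succ)
      simp only [map_sum, map_zero, res_smul, hs, Finset.smul_sum, smul_smul] at this
      rw [Finset.sum_comm] at this
      simpa [Finset.sum_smul, mul_comm] using this
    refine J.superset_covering (fun Z h' hh => ?_)
      (ih (fun j m => ∑ i, a i m * (R.map g.op).hom (A j.succ i)) t hB)
    obtain ⟨l', t', b, hb, hBb⟩ := hh
    refine ⟨l', t', fun i q => ∑ m, (R.map h'.op).hom (a i m) * b m q, fun i => ?_, ?_⟩
    · rw [op_comp, res_comp, hs, map_sum]
      simp only [res_smul, hb, Finset.smul_sum, smul_smul]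
      rw [Finset.sum_comm]
      simp only [Finset.sum_smul]
    · intro j q
      have key : ∑ i, (∑ m, (R.map h'.op).hom (a i m) * b m q) *
            (R.map (h' ≫ g).op).hom (A j i) =
          ∑ m, b m q * (R.map h'.op).hom (∑ i, a i m * (R.map g.op).hom (A j i)) := by
        simp only [op_comp, map_comp_apply, map_sum, map_mul, Finset.sum_mul, Finset.mul_sum]
        rw [Finset.sum_comm]
        exact Finset.sum_congr rfl fun m _ => Finset.sum_congr rfl fun i _ => by ring
      rw [key]
      induction j using Fin.cases with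
      | zero => exact Finset.sum_eq_zero fun m _ => by simp only [h0, map_zero, mul_zero]
      | succ j => exact hBb j q

variable {M M' : PresheafOfModules.{u} (R ⋙ forget₂ _ RingCat)}

/-- Tensoring with `F` sends sectionwise injective maps to locally injective ones. -/
theorem isLocallyInjective_whiskerRight (hF : Crit J F) (f : M ⟶ M')
    (hf : ∀ X, Function.Injective (f.app X)) :
    PresheafOfModules.IsLocallyInjective J (f ▷ F) := by
  refine ⟨fun {X} z z' h => ?_⟩
  suffices H : ∀ w : (M ⊗ F).obj X, (f ▷ F).app X w = 0 →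
      ∃ S ∈ J X.unop, ∀ ⦃Y : C⦄ (g : Y ⟶ X.unop), S g → res (M ⊗ F) g.op w = 0 by
    obtain ⟨S, hS, h0⟩ := H (show (M ⊗ F).obj X from (z : (M ⊗ F).obj X) - z')
      ((map_sub ((f ▷ F).app X).hom _ _).trans (sub_eq_zero.2 h))
    refine J.superset_covering (fun Y g hg => ?_) hS
    exact sub_eq_zero.1 ((map_sub (res (M ⊗ F) g.op) _ _).symm.trans (h0 g hg))
  intro w hw
  obtain ⟨n, a, b, rfl⟩ := exists_sum_tm w
  rw [map_sum] at hw
  simp only [whiskerRight_tm] at hw
  obtain ⟨L, c, k, A, y, hy, hA⟩ := exists_vanishesTrivially_sumElim (R := R.obj X) b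
    (fun i => (f.app X (a i) : M'.obj X)) (by
      apply (TensorProduct.comm (R.obj X) (F.obj X) (M'.obj X)).injective
      rw [map_zero, map_sum]
      exact hw)
  have hS := trivSieve_mem hF (U := X.unop) (fun j i => A i j) (Sum.elim b c) hA
  refine ⟨_, hS, ?_⟩
  rintro Y g ⟨l, t, α, hs, hα⟩
  let a' : Fin n ⊕ Fin L → M.obj (op Y) := fun i =>
    res M g.op (Sum.elim a (fun _ => (0 : M.obj X)) i)
  have hlin : ∀ i : Fin n ⊕ Fin L, f.app X (Sum.elim a (fun _ => (0 : M.obj X)) i) =
      Sum.elim (fun i => (f.app X (a i) : M'.obj X)) (fun _ => 0) i := by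
    rintro (i | i)
    · rfl
    · exact map_zero (f.app X).hom
  have hzero : ∀ m, ∑ i, α i m • a' i = 0 := fun m => by
    apply hf (op Y)
    refine Eq.trans ?_ (map_zero (f.app (op Y)).hom).symm
    refine (map_sum (f.app (op Y)).hom _ _).trans ?_
    have e : ∀ i, f.app (op Y) (α i m • a' i) =
        ∑ j, (α i m * (R.map g.op).hom (A i j)) • res M' g.op (y j) := fun i => by
      refine ((f.app (op Y)).hom.map_smul (α i m) (a' i)).trans ?_
      simp only [a', res_app, hlin, hy i, map_sum, res_smul]
      rw [Finset.smul_sum]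
      exact Finset.sum_congr rfl fun j _ => smul_smul _ _ _
    refine (Finset.sum_congr rfl fun i _ => e i).trans ?_
    rw [Finset.sum_comm]
    refine Finset.sum_eq_zero fun j _ => ?_
    rw [← Finset.sum_smul, hα j m, zero_smul]
  have key : ∑ i, a' i ⊗ₜ[R.obj (op Y)] res F g.op (Sum.elim b c i) = 0 := by
    simp only [hs, TensorProduct.tmul_sum, TensorProduct.tmul_smul, TensorProduct.smul_tmul']
    rw [Finset.sum_comm]
    refine Finset.sum_eq_zero fun m _ => ?_
    rw [← TensorProduct.sum_tmul, hzero, TensorProduct.zero_tmul]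
  rw [Fintype.sum_sum_type] at key
  simp only [a', Sum.elim_inl, Sum.elim_inr, map_zero, TensorProduct.zero_tmul,
    Finset.sum_const_zero, add_zero] at key
  exact (map_sum (res (M ⊗ F) g.op) _ _).trans key

end Groth.Agent.Lib.FlatCrit.Rel
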