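import Groth.Prelude.Def_ModSite
import Groth.Agent.Lib.FlatCrit.Rel
import Groth.Agent.Lib.FreeMod.Basic
import Mathlib.CategoryTheory.Sites.EpiMono
import Mathlib.Algebra.Homology.ShortComplex.Ab
import Mathlib.Algebra.Homology.ShortComplex.ExactFunctor

/-!
# The equational criterion of flatness on a ringed site
-/

set_option linter.style.haveILetI false

universe u

open CategoryTheory Limits Opposite MonoidalCategory TensorProduct

namespace Groth.Agent.Lib.FlatCrit.Iff

open Groth.Agent.Lib.ModTensor.Monoidal Groth.Agent.Lib.ModTensor.Local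

variable {C : Type u} [SmallCategory C] {J : GrothendieckTopology C} {O : Sheaf J CommRingCat.{u}}

/-- Sheafification sends locally injective maps to monomorphisms. -/
theorem mono_L_map {P Q : PM O} (f : P ⟶ Q) [PresheafOfModules.IsLocallyInjective J f] :
    Mono ((L.{u, u, u} O).map f) := by
  let e := PresheafOfModules.sheafificationCompToSheaf.{u} (𝟙 (rs.{u, u, u} O).obj)
  haveI : Sheaf.IsLocallyInjective ((presheafToSheaf J AddCommGrpCat.{u}).map
      ((PresheafOfModules.toPresheaf _).map f)) :=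
    (Presheaf.isLocallyInjective_presheafToSheaf_map_iff (J := J) _).2 ‹_›
  haveI : Mono ((presheafToSheaf J AddCommGrpCat.{u}).map
      ((PresheafOfModules.toPresheaf _).map f)) := Sheaf.mono_of_isLocallyInjective _
  haveI : Mono ((SheafOfModules.toSheaf.{u} (rs.{u, u, u} O)).map ((L.{u, u, u} O).map f)) :=
    (MorphismProperty.monomorphisms _).arrow_mk_iso_iff
      (Arrow.isoMk (e.app P) (e.app Q) (e.hom.naturality f).symm) |>.2
      (show Mono ((presheafToSheaf J AddCommGrpCat.{u}).map
        ((PresheafOfModules.toPresheaf _).map f)) from inferInstance)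
  exact (SheafOfModules.toSheaf.{u} (rs.{u, u, u} O)).mono_of_mono_map inferInstance

/-- If relations are locally trivial then the module is flat. -/
theorem isFlat_of_crit {F : _root_.ModSite.Mod O}
    (hF : Rel.Crit (R := O.obj) J ((G.{u, u, u} O).obj F)) : _root_.ModSite.IsFlat F := by
  rw [ModTensor.FlatMono.isFlat_iff_mono]
  intro X Y f hf
  haveI := hf
  haveI := (adj.{u, u, u} O).isRightAdjoint
  haveI : Mono ((G.{u, u, u} O).map f) := inferInstance
  have hinj := (PresheafOfModules.mono_iff_surjective ((G.{u, u, u} O).map f)).1 inferInstance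
  haveI := Rel.isLocallyInjective_whiskerRight hF ((G.{u, u, u} O).map f) (fun X => @hinj X)
  haveI : Mono ((tenRight.{u, u, u} F).map f) :=
    mono_L_map ((G.{u, u, u} O).map f ▷ (G.{u, u, u} O).obj F)
  let e := ModTensor.ModSite.tensorBiFlipIso F
  exact (MorphismProperty.monomorphisms _).arrow_mk_iso_iff
    (Arrow.isoMk (e.app X) (e.app Y) (e.hom.naturality f).symm) |>.2
    (show Mono ((tenRight.{u, u, u} F).map f) from inferInstance)

section Converse

variable (O)

/-- The presheaf `V ↦ Hom(V, U) × Fin n`. -/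
def arrowsFin (U : C) (n : ℕ) : Cᵒᵖ ⥤ Type u where
  obj V := (V.unop ⟶ U) × Fin n
  map g := ↾fun p => (g.unop ≫ p.1, p.2)
  map_id V := by ext p <;> simp
  map_comp g h := by ext p <;> simp

/-- The source of the relation map. -/
noncomputable abbrev src (U : C) (n : ℕ) : PM O :=
  (FreeMod.Basic.freePre O).obj (arrowsFin U n)

/-- The target of the relation map. -/
noncomputable abbrev tgt (U : C) : PM O := (FreeMod.Basic.freePre O).obj (yoneda.obj U)

variable {O}

/-- A basis element of a free presheaf of modules. -/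
noncomputable def bas {S : Cᵒᵖ ⥤ Type u} {V : Cᵒᵖ} (x : S.obj V) :
    ((FreeMod.Basic.freePre O).obj S).obj V :=
  ModuleCat.freeMk (R := (O.obj ⋙ forget₂ CommRingCat.{u} RingCat.{u}).obj V) x

lemma bas_eq {S : Cᵒᵖ ⥤ Type u} {V : Cᵒᵖ} (x : S.obj V) :
    (bas (O := O) x : S.obj V →₀ O.obj.obj V) = Finsupp.single x 1 := rfl

lemma res_bas {S : Cᵒᵖ ⥤ Type u} {V W : Cᵒᵖ} (g : V ⟶ W) (x : S.obj V) :
    res ((FreeMod.Basic.freePre O).obj S) g (bas x) = bas (S.map g x) := by
  rw [res_apply]
  exact ModuleCat.freeDesc_apply _ x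

variable {U : C} {n : ℕ} (f : Fin n → O.obj.obj (op U))

/-- The relation map on basis elements. -/
noncomputable def psi :
    arrowsFin U n ⟶ (tgt O U).presheaf ⋙ CategoryTheory.forget Ab.{u} where
  app V := ↾fun p => ((O.obj.map p.1.op).hom (f p.2) • bas (O := O) (S := yoneda.obj U) p.1)
  naturality V W g := by
    ext p
    change (O.obj.map (g.unop ≫ p.1).op).hom (f p.2) • bas (S := yoneda.obj U) (g.unop ≫ p.1) =
      res (tgt O U) g ((O.obj.map p.1.op).hom (f p.2) • bas (S := yoneda.obj U) p.1)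
    rw [res_smul (R := O.obj), res_bas, op_comp, Rel.map_comp_apply]
    rfl

/-- The relation map `O^n → O` on the free presheaves generated by `U`. -/
noncomputable def relMap : src O U n ⟶ tgt O U :=
  PresheafOfModules.freeObjDesc (psi f)

lemma relMap_bas {V : Cᵒᵖ} (p : (arrowsFin U n).obj V) :
    (relMap f).app V (bas p) =
      (O.obj.map p.1.op).hom (f p.2) • bas (O := O) (S := yoneda.obj U) p.1 :=
  ModuleCat.freeDesc_apply _ p

/-- The coefficient of a basis element, as a linear map. -/
noncomputable def coord {S : Cᵒᵖ ⥤ Type u} {V : Cᵒᵖ} (x : S.obj V) :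
    ((FreeMod.Basic.freePre O).obj S).obj V →ₗ[O.obj.obj V] O.obj.obj V where
  toFun κ := DFunLike.coe (F := S.obj V →₀ O.obj.obj V) κ x
  map_add' _ _ := rfl
  map_smul' _ _ := rfl

lemma free_ext {S : Cᵒᵖ ⥤ Type u} {V : Cᵒᵖ} {M : Type*} [AddCommGroup M]
    [Module (O.obj.obj V) M]
    (l l' : ((FreeMod.Basic.freePre O).obj S).obj V →ₗ[O.obj.obj V] M)
    (h : ∀ p, l (bas p) = l' (bas p)) : l = l' := by
  refine LinearMap.toAddMonoidHom_injective
    (Finsupp.addHom_ext (M := O.obj.obj V) (f := l.toAddMonoidHom) (g := l'.toAddMonoidHom)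
      fun p r => ?_)
  have e : (Finsupp.single p r : S.obj V →₀ O.obj.obj V) = r • bas (O := O) p :=
    ((Finsupp.smul_single r p (1 : O.obj.obj V)).trans
      (congrArg (Finsupp.single p) (mul_one r))).symm
  exact (congrArg l e).trans ((l.map_smul r _).trans
    ((congrArg (r • ·) (h p)).trans ((l'.map_smul r _).symm.trans (congrArg l' e).symm)))

lemma coord_bas {S : Cᵒᵖ ⥤ Type u} {V : Cᵒᵖ} (x y : S.obj V) [Decidable (x = y)] :
    coord (O := O) x (bas y) = if x = y then 1 else 0 := by
  classical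
  rw [coord]
  change (Finsupp.single y (1 : O.obj.obj V)) x = _
  rw [Finsupp.single_apply]
  simp only [eq_comm]

lemma coord_bas_pair {V : Cᵒᵖ} (h g : V.unop ⟶ U) (j i : Fin n) [Decidable (h = g)] :
    coord (O := O) (S := arrowsFin U n) (h, j) (bas (g, i)) =
      if h = g ∧ j = i then 1 else 0 := by
  classical
  refine (coord_bas _ _).trans (if_congr ?_ rfl rfl)
  exact ⟨fun e => ⟨congrArg (fun q : (V.unop ⟶ U) × Fin n => q.1) e,
    congrArg (fun q : (V.unop ⟶ U) × Fin n => q.2) e⟩, fun e => by rw [e.1, e.2]⟩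

lemma coord_relMap {V : Cᵒᵖ} (h : V.unop ⟶ U) (κ : (src O U n).obj V) :
    coord (S := yoneda.obj U) h ((relMap f).app V κ) =
      ∑ j, coord (S := arrowsFin U n) (h, j) κ * (O.obj.map h.op).hom (f j) := by
  classical
  have key : (coord (O := O) (S := yoneda.obj U) h).comp ((relMap f).app V).hom =
      ∑ j, ((LinearMap.mulRight (O.obj.obj V) ((O.obj.map h.op).hom (f j))).comp
        (coord (O := O) (S := arrowsFin U n) (h, j))) := by
    refine free_ext _ _ fun p => ?_
    simp only [LinearMap.comp_apply, LinearMap.sum_apply, LinearMap.mulRight_apply]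
    refine (congrArg (coord h) (relMap_bas f p)).trans ?_
    obtain ⟨g, j⟩ := p
    rw [map_smul, coord_bas]
    simp only [coord_bas_pair, smul_eq_mul, ite_mul, one_mul, zero_mul]
    by_cases hg : h = g
    · subst hg
      simp
    · simp [hg]
  have := congrArg (fun l => l κ) key
  simpa using this

/-- Evaluation of a tensor in a coordinate. -/
noncomputable def evalAt (M : PM O) {S : Cᵒᵖ ⥤ Type u} {V : Cᵒᵖ} (x : S.obj V) :
    ((FreeMod.Basic.freePre O).obj S ⊗ M).obj V →ₗ[O.obj.obj V] M.obj V :=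
  TensorProduct.lift ((LinearMap.lsmul (O.obj.obj V) (M.obj V)).comp (coord x))

lemma evalAt_tm (M : PM O) {S : Cᵒᵖ ⥤ Type u} {V : Cᵒᵖ} (x : S.obj V)
    (κ : ((FreeMod.Basic.freePre O).obj S).obj V) (t : M.obj V) :
    evalAt M x (tm _ M κ t) = coord x κ • t :=
  TensorProduct.lift.tmul _ _

variable (O) in
/-- Sections over `U`. -/
noncomputable abbrev ev (U : Cᵒᵖ) : _root_.ModSite.Mod O ⥤ AddCommGrpCat.{u} :=
  G.{u, u, u} O ⋙ PresheafOfModules.toPresheaf _ ⋙ (evaluation _ _).obj U

theorem preservesFiniteLimits_tenRight {F : _root_.ModSite.Mod O} (hF : _root_.ModSite.IsFlat F) :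
    PreservesFiniteLimits (tensorRight ((G.{u, u, u} O).obj F) ⋙ L.{u, u, u} O) := by
  haveI : PreservesFiniteLimits (L.{u, u, u} O) :=
    inferInstanceAs (PreservesFiniteLimits (PresheafOfModules.sheafification.{u} (𝟙 (rs O).obj)))
  haveI := hF.1
  haveI : PreservesFiniteLimits (tenRightP.{u, u, u} ((G.{u, u, u} O).obj F)) :=
    preservesFiniteLimits_of_natIso (ModTensor.ModSite.tensorBiFlipIso F)
  exact preservesFiniteLimits_of_natIso (tensorRightCompIso ((G.{u, u, u} O).obj F)).symm

/-- Flat modules have locally trivial relations. -/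
theorem crit_of_isFlat {F : _root_.ModSite.Mod O} (hF : _root_.ModSite.IsFlat F) :
    Rel.Crit (R := O.obj) J ((G.{u, u, u} O).obj F) := by
  intro U n f s hrel
  classical
  let M := (G.{u, u, u} O).obj F
  let φ := relMap f
  let T : PM O ⥤ _root_.ModSite.Mod O := tensorRight M ⋙ L.{u, u, u} O
  haveI : PreservesFiniteLimits T := preservesFiniteLimits_tenRight hF
  haveI := (adj.{u, u, u} O).isRightAdjoint
  haveI : PreservesFiniteLimits (ev O (op U)) := inferInstance
  let Φ : PM O ⥤ AddCommGrpCat.{u} := T ⋙ ev O (op U)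
  haveI : PreservesFiniteLimits Φ := comp_preservesFiniteLimits _ _
  haveI : Φ.Additive := Functor.additive_of_preserves_binary_products Φ
  let S := ShortComplex.mk (kernel.ι φ) φ (kernel.condition φ)
  have hS : (S.map Φ).Exact :=
    (S.exact_of_f_is_kernel (kernelIsKernel φ)).map_of_mono_of_preservesKernel Φ
      inferInstance inferInstance
  let x : (src O U n ⊗ M).obj (op U) :=
    ∑ j, tm (src O U n) M (bas (S := arrowsFin U n) (𝟙 U, j)) (s j)
  have hx : (φ ▷ M).app (op U) x = 0 := by
    refine (map_sum ((φ ▷ M).app (op U)).hom _ _).trans ?_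
    have e : ∀ j, (φ ▷ M).app (op U) (tm (src O U n) M (bas (S := arrowsFin U n) (𝟙 U, j)) (s j)) =
        tm (tgt O U) M (bas (S := yoneda.obj U) (𝟙 U)) (f j • s j) := fun j => by
      rw [whiskerRight_tm, relMap_bas]
      simp only [op_id, CategoryTheory.Functor.map_id]
      exact TensorProduct.smul_tmul (f j) _ _
    refine (Finset.sum_congr rfl fun j _ => e j).trans ?_
    refine (TensorProduct.tmul_sum _ _ _).symm.trans ?_
    rw [hrel]
    exact TensorProduct.tmul_zero _ _
  let η := (adj.{u, u, u} O).unit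
  have hnat : ∀ {P Q : PM O} (q : P ⟶ Q) (V : Cᵒᵖ) (z : P.obj V),
      ((G.{u, u, u} O).map ((L.{u, u, u} O).map q)).app V ((η.app P).app V z) =
        (η.app Q).app V (q.app V z) := fun {P Q} q V z =>
    (congrArg (fun t => t.app V z) (η.naturality q)).symm
  have h0 : (S.map Φ).g ((η.app (src O U n ⊗ M)).app (op U) x) = 0 := by
    refine (hnat (φ ▷ M) (op U) x).trans ?_
    rw [hx]
    exact map_zero ((η.app _).app (op U)).hom
  obtain ⟨w, hw⟩ := (ShortComplex.ab_exact_iff _).1 hS _ h0
  obtain ⟨hηi, hηs⟩ := (isIso_map_iff (η.app (kernel φ ⊗ M))).1 inferInstance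
  obtain ⟨hηi', -⟩ := (isIso_map_iff (η.app (src O U n ⊗ M))).1 inferInstance
  obtain ⟨S₁, hS₁, hlift⟩ := exists_cover_lift J (R := O.obj) (η.app (kernel φ ⊗ M))
    (X := op U) (ι := Unit) (fun _ => w)
  refine ⟨Rel.trivSieve (R := O.obj) M (fun _ : Fin 1 => f) s,
    J.transitive hS₁ _ (fun V g hg => ?_), fun V g hg => ?_⟩
  swap
  · obtain ⟨l, t, a, hs, ha⟩ := hg
    exact ⟨l, t, a, hs, fun k => ha 0 k⟩
  obtain ⟨z, hz⟩ := hlift g hg
  let δ : (src O U n ⊗ M).obj (op V) :=
    (kernel.ι φ ▷ M).app (op V) (z ()) - res (src O U n ⊗ M) g.op x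
  have hδ : (η.app (src O U n ⊗ M)).app (op V) δ = 0 := by
    refine (map_sub ((η.app (src O U n ⊗ M)).app (op V)).hom _ _).trans (sub_eq_zero.2 ?_)
    refine (hnat (kernel.ι φ ▷ M) (op V) (z ())).symm.trans ?_
    refine (congrArg _ (hz ())).trans ?_
    refine (res_app (R := O.obj) _ g.op w).trans ?_
    refine (congrArg _ hw).trans ?_
    exact (res_app (R := O.obj) (η.app (src O U n ⊗ M)) g.op x).symm
  obtain ⟨S₂, hS₂, hzero⟩ := exists_cover_zero J (R := O.obj) (η.app (src O U n ⊗ M))
    (X := op V) (ι := Unit) (fun _ => δ) (fun _ => hδ)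
  refine J.superset_covering (fun W h hh => ?_) hS₂
  obtain ⟨m, κ, t, hsum⟩ := exists_sum_tm (res (kernel φ ⊗ M) h.op (z ()))
  have hkey : res (src O U n ⊗ M) (h ≫ g).op x =
      ∑ i, tm (src O U n) M ((kernel.ι φ).app (op W) (κ i)) (t i) := by
    rw [op_comp, res_comp]
    have := hzero h hh ()
    rw [map_sub, sub_eq_zero] at this
    refine this.symm.trans ((res_app (R := O.obj) (kernel.ι φ ▷ M) h.op (z ())).symm.trans ?_)
    exact (congrArg _ hsum).trans (map_sum ((kernel.ι φ ▷ M).app (op W)).hom _ _)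
  let p : W ⟶ U := h ≫ g
  refine ⟨m, t, fun j i => coord (S := arrowsFin U n) (p, j) ((kernel.ι φ).app (op W) (κ i)),
    fun j => ?_, fun _ i => ?_⟩
  · have := congrArg (evalAt M (S := arrowsFin U n) (p, j)) hkey
    simp only [x, map_sum, res_tm, res_bas, evalAt_tm] at this
    refine Eq.trans ?_ this
    dsimp only
    have hp : ∀ j', (arrowsFin U n).map p.op (𝟙 U, j') = (p, j') := fun j' =>
      Prod.ext (Category.comp_id _) rfl
    refine Eq.trans ?_ (Finset.sum_congr rfl fun j' _ =>
      congrArg (· • res M p.op (s j'))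
        ((coord_bas_pair p p j j').symm.trans (congrArg (fun q => coord _ (bas q)) (hp j').symm)))
    simp [ite_smul]
    rfl
  · rw [← coord_relMap]
    have : φ.app (op W) ((kernel.ι φ).app (op W) (κ i)) = 0 :=
      congrArg (fun q => q.app (op W) (κ i)) (kernel.condition φ)
    rw [this]
    exact map_zero _

end Converse

end Groth.Agent.Lib.FlatCrit.Iff
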