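import Groth.Prelude.Def_ModSite
import Groth.Agent.Lib.FlatCrit.Iff
import Groth.Agent.Lib.SiteMod.Basic
import Mathlib.Algebra.Category.ModuleCat.Sheaf.Quasicoherent

/-!
# Maps from finitely presented modules to flat modules factor locally through free modules
-/

set_option linter.style.haveILetI false

universe u

open CategoryTheory Limits Opposite

namespace Groth.Agent.Lib.FlatCrit.Factor

variable {C : Type u} [SmallCategory C] {J : GrothendieckTopology C}

section Elements

variable {R : Sheaf J RingCat.{u}} {W : C} {M N : SheafOfModules.{u} (R.over W)}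

/-- The value at the terminal object of a map out of the structure sheaf. -/
noncomputable def el (ψ : SheafOfModules.unit (R.over W) ⟶ M) : M.val.obj (op (Over.mk (𝟙 W))) :=
  (M.unitHomEquiv ψ).val _

lemma val_eq (ψ : SheafOfModules.unit (R.over W) ⟶ M) (U : (Over W)ᵒᵖ) :
    (M.unitHomEquiv ψ).val U =
      M.val.map (Over.homMk U.unop.hom : U.unop ⟶ Over.mk (𝟙 W)).op (el ψ) :=
  ((M.unitHomEquiv ψ).property (Over.homMk U.unop.hom : U.unop ⟶ Over.mk (𝟙 W)).op).symm

lemma el_injective : Function.Injective (el (M := M)) := fun ψ ψ' h => by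
  apply M.unitHomEquiv.injective
  exact Subtype.ext (funext fun U => by rw [val_eq, val_eq, h])

lemma top_hom_ext {U : (Over W)ᵒᵖ} (p q : op (Over.mk (𝟙 W)) ⟶ U) : p = q := by
  apply Quiver.Hom.unop_inj
  apply Over.OverMorphism.ext
  have hp := Over.w p.unop
  have hq := Over.w q.unop
  exact (Category.comp_id _).symm.trans ((hp.trans hq.symm).trans (Category.comp_id _))

/-- The map out of the structure sheaf with given value at the terminal object. -/
noncomputable def ofEl (m : M.val.obj (op (Over.mk (𝟙 W)))) :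
    SheafOfModules.unit (R.over W) ⟶ M :=
  M.unitHomEquiv.symm
    ⟨fun U => M.val.map (Over.homMk U.unop.hom : U.unop ⟶ Over.mk (𝟙 W)).op m, fun {U V} f => by
      refine (PresheafOfModules.map_comp_apply M.val _ f m).symm.trans ?_
      exact congrArg (fun q : op (Over.mk (𝟙 W)) ⟶ V => M.val.map q m) (top_hom_ext _ _)⟩

lemma el_ofEl (m : M.val.obj (op (Over.mk (𝟙 W)))) : el (ofEl m) = m := by
  refine (congrArg (fun s => s.val (op (Over.mk (𝟙 W)))) (M.unitHomEquiv.apply_symm_apply _)).trans ?_
  refine Eq.trans ?_ (congrArg (fun f => f m) (PresheafOfModules.map_id M.val _))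
  exact congrArg (fun q => M.val.map q m) (top_hom_ext _ _)

lemma el_comp (ψ : SheafOfModules.unit (R.over W) ⟶ M) (χ : M ⟶ N) :
    el (ψ ≫ χ) = χ.val.app _ (el ψ) := rfl

lemma el_add (ψ ψ' : SheafOfModules.unit (R.over W) ⟶ M) : el (ψ + ψ') = el ψ + el ψ' := rfl

lemma el_zero : el (0 : SheafOfModules.unit (R.over W) ⟶ M) = 0 := rfl

/-- `el` as an additive map. -/
noncomputable def elHom : (SheafOfModules.unit (R.over W) ⟶ M) →+ M.val.obj (op (Over.mk (𝟙 W))) where
  toFun := el
  map_zero' := el_zero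
  map_add' := el_add

lemma el_sum {α : Type*} (s : Finset α) (ψ : α → (SheafOfModules.unit (R.over W) ⟶ M)) :
    el (∑ i ∈ s, ψ i) = ∑ i ∈ s, el (ψ i) :=
  map_sum elHom ψ s

lemma el_unit_comp (a : SheafOfModules.unit (R.over W) ⟶ SheafOfModules.unit (R.over W))
    (χ : SheafOfModules.unit (R.over W) ⟶ M) :
    el (a ≫ χ) = (show (R.over W).obj.obj (op (Over.mk (𝟙 W))) from el a) • el χ := by
  let r : (R.over W).obj.obj (op (Over.mk (𝟙 W))) := el a
  refine Eq.trans ?_ ((χ.val.app _).hom.map_smul r
    (1 : (R.over W).obj.obj (op (Over.mk (𝟙 W)))))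
  have hr : (r : (R.over W).obj.obj (op (Over.mk (𝟙 W)))) * 1 = r := mul_one r
  exact congrArg (fun z => (χ.val.app _).hom z) hr.symm

end Elements

section Free

variable {D : Type u} [SmallCategory D] {K : GrothendieckTopology D} {R : Sheaf K RingCat.{u}}
  {ι : Type u} [Fintype ι]

open scoped Classical in
/-- The projection of a free module onto a factor. -/
noncomputable def proj (i : ι) : SheafOfModules.free (R := R) ι ⟶ SheafOfModules.unit R :=
  Sigma.desc fun j => if j = i then 𝟙 _ else 0

open scoped Classical in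
lemma ιFree_proj (i j : ι) :
    SheafOfModules.ιFree (R := R) j ≫ proj i = if j = i then 𝟙 _ else 0 :=
  Sigma.ι_desc _ _

lemma free_id : ∑ i, proj (R := R) i ≫ SheafOfModules.ιFree i = 𝟙 (SheafOfModules.free ι) := by
  classical
  suffices h : ∀ j, SheafOfModules.ιFree j ≫
      (∑ i, proj (R := R) i ≫ SheafOfModules.ιFree i) = SheafOfModules.ιFree j from
    Cofan.IsColimit.hom_ext (SheafOfModules.isColimitFreeCofan ι) _ _
      fun j => (h j).trans (Category.comp_id _).symm
  intro j
  rw [Preadditive.comp_sum]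
  refine (Finset.sum_eq_single j ?_ ?_).trans ?_
  · intro i _ hi
    rw [← Category.assoc, ιFree_proj, if_neg (Ne.symm hi), zero_comp]
  · exact fun h => absurd (Finset.mem_univ j) h
  · rw [← Category.assoc, ιFree_proj, if_pos rfl, Category.id_comp]

lemma comp_free_id {A : Type*} [Category A] [Preadditive A]
    (T : SheafOfModules.{u} R ⥤ A) [T.Additive] {Y : A}
    (χ : T.obj (SheafOfModules.free ι) ⟶ Y) :
    ∑ i, T.map (proj i) ≫ T.map (SheafOfModules.ιFree i) ≫ χ = χ := by
  simp only [← Category.assoc, ← Functor.map_comp, ← Preadditive.sum_comp, ← Functor.map_sum,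
    free_id]
  rw [T.map_id, Category.id_comp]

end Free

section Main

variable {O : Sheaf J CommRingCat.{u}} {X W : C} (v : W ⟶ X)


instance additive_overMap : (SheafOfModules.overMap.{u} (_root_.ModSite.ringSh O) v).Additive := ⟨fun {_ _ _ _} => rfl⟩

theorem preservesColimits_overMap :
    PreservesColimitsOfSize.{u, u} (SheafOfModules.overMap.{u} (_root_.ModSite.ringSh O) v) := by
  let e : SheafOfModules.overMap.{u} (_root_.ModSite.ringSh O) v ⋙ SheafOfModules.toSheaf _ ≅
      SheafOfModules.toSheaf _ ⋙ (Over.map v).sheafPushforwardContinuous AddCommGrpCat.{u}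
        (J.over W) (J.over X) := Iso.refl _
  haveI : PreservesColimitsOfSize.{u, u} ((Over.map v).sheafPushforwardContinuous
      AddCommGrpCat.{u} (J.over W) (J.over X)) :=
    ((Over.map v).sheafAdjunctionCocontinuous AddCommGrpCat.{u} (J.over W)
      (J.over X)).leftAdjoint_preservesColimits
  haveI : PreservesColimitsOfSize.{u, u}
      (SheafOfModules.overMap.{u} (_root_.ModSite.ringSh O) v ⋙ SheafOfModules.toSheaf _) :=
    preservesColimits_of_natIso e.symm
  exact SiteMod.Basic.preservesColimits_of_comp_toSheaf _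

/-- The scalar of an endomorphism of the structure sheaf. -/
noncomputable def co {Y : C} (a : SheafOfModules.unit ((_root_.ModSite.ringSh O).over Y) ⟶
    SheafOfModules.unit ((_root_.ModSite.ringSh O).over Y)) : O.obj.obj (op Y) :=
  el a

/-- Restriction along `v` of the value at the terminal object. -/
lemma el_overMap {N : SheafOfModules.{u} ((_root_.ModSite.ringSh O).over X)}
    (χ : SheafOfModules.unit ((_root_.ModSite.ringSh O).over X) ⟶ N) :
    el ((SheafOfModules.overMapUnitIso (R := (_root_.ModSite.ringSh O)) v).inv ≫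
      (SheafOfModules.overMap.{u} (_root_.ModSite.ringSh O) v).map χ) =
    N.val.map (Over.homMk ((Over.map v).obj (Over.mk (𝟙 W))).hom :
      (Over.map v).obj (Over.mk (𝟙 W)) ⟶ Over.mk (𝟙 X)).op (el χ) :=
  val_eq χ (op ((Over.map v).obj (Over.mk (𝟙 W))))

/-- Restriction of a section. -/
lemma map_homMk {H : _root_.ModSite.Mod O} (m : H.val.obj (op X)) :
    (H.over X).val.map (Over.homMk ((Over.map v).obj (Over.mk (𝟙 W))).hom :
      (Over.map v).obj (Over.mk (𝟙 W)) ⟶ Over.mk (𝟙 X)).op m =
    ModTensor.Local.res (R := O.obj) H.val v.op m :=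
  congrArg (fun q : W ⟶ X => H.val.map q.op m) (Category.id_comp v)

/-- Restriction along `v` of a scalar. -/
lemma overMap_scalar (ψ : SheafOfModules.unit ((_root_.ModSite.ringSh O).over X) ⟶
    SheafOfModules.unit ((_root_.ModSite.ringSh O).over X)) :
    (SheafOfModules.overMapUnitIso (R := (_root_.ModSite.ringSh O)) v).inv ≫
      (SheafOfModules.overMap.{u} (_root_.ModSite.ringSh O) v).map ψ ≫
      (SheafOfModules.overMapUnitIso (R := (_root_.ModSite.ringSh O)) v).hom =
    ofEl ((O.obj.map v.op).hom (co ψ)) := by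
  apply el_injective
  rw [el_ofEl, ← Category.assoc, el_comp]
  refine (congrArg
    (((SheafOfModules.overMapUnitIso (R := (_root_.ModSite.ringSh O)) v).hom).val.app _).hom
      (el_overMap v ψ)).trans ?_
  exact congrArg (fun q : W ⟶ X => (O.obj.map q.op).hom (co ψ)) (Category.id_comp v)

variable {σ ρ : Type u} [Fintype σ] [Fintype ρ] {M : SheafOfModules.{u} ((_root_.ModSite.ringSh O).over X)}
  {H : _root_.ModSite.Mod O}

/-- If the relations between the generators become trivial along `v`, the map factors through a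
free module along `v`. -/
theorem exists_factor (f : SheafOfModules.free (R := (_root_.ModSite.ringSh O).over X) ρ ⟶ SheafOfModules.free σ)
    (g : SheafOfModules.free (R := (_root_.ModSite.ringSh O).over X) σ ⟶ M) (w : f ≫ g = 0)
    (hg : IsColimit (CokernelCofork.ofπ g w)) (χ : M ⟶ H.over X)
    {l : ℕ} (t : Fin l → _root_.ModSite.sect H W) (a : σ → Fin l → O.obj.obj (op W))
    (hs : ∀ j : σ, ModTensor.Local.res (R := O.obj) H.val v.op
      (el (SheafOfModules.ιFree j ≫ g ≫ χ)) = ∑ m, a j m • t m)
    (ha : ∀ (k : ρ) (m : Fin l), ∑ j, a j m *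
      (O.obj.map v.op).hom (co (SheafOfModules.ιFree k ≫ f ≫ proj j)) = 0) :
    ∃ (A : (SheafOfModules.overMap.{u} (_root_.ModSite.ringSh O) v).obj M ⟶
          SheafOfModules.free (R := (_root_.ModSite.ringSh O).over W) (ULift.{u} (Fin l)))
      (B : SheafOfModules.free (R := (_root_.ModSite.ringSh O).over W) (ULift.{u} (Fin l)) ⟶
          (SheafOfModules.overMap.{u} (_root_.ModSite.ringSh O) v).obj (H.over X)),
      A ≫ B = (SheafOfModules.overMap.{u} (_root_.ModSite.ringSh O) v).map χ := by
  classical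
  let T := SheafOfModules.overMap.{u} (_root_.ModSite.ringSh O) v
  haveI : PreservesColimitsOfSize.{u, u} T := preservesColimits_overMap v
  haveI : PreservesColimitsOfSize.{0, 0} T := preservesColimitsOfSize_shrink T
  let η := SheafOfModules.overMapUnitIso (R := (_root_.ModSite.ringSh O)) v
  let row (j : σ) : SheafOfModules.unit ((_root_.ModSite.ringSh O).over W) ⟶
      SheafOfModules.free (R := (_root_.ModSite.ringSh O).over W) (ULift.{u} (Fin l)) :=
    ∑ m, ofEl (a j m) ≫ SheafOfModules.ιFree (ULift.up m)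
  let B : SheafOfModules.free (R := (_root_.ModSite.ringSh O).over W) (ULift.{u} (Fin l)) ⟶ T.obj (H.over X) :=
    Sigma.desc fun m => ofEl (t m.down)
  let A' : T.obj (SheafOfModules.free σ) ⟶
      SheafOfModules.free (R := (_root_.ModSite.ringSh O).over W) (ULift.{u} (Fin l)) :=
    ∑ j, T.map (proj j) ≫ η.hom ≫ row j
  have hrow : ∀ j, row j ≫ B = η.inv ≫ T.map (SheafOfModules.ιFree j ≫ g ≫ χ) := fun j => by
    apply el_injective
    rw [el_overMap]
    refine Eq.trans ?_ (map_homMk v (el (SheafOfModules.ιFree j ≫ g ≫ χ))).symm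
    rw [hs, Preadditive.sum_comp, el_sum]
    refine Finset.sum_congr rfl fun m _ => ?_
    have hB : SheafOfModules.ιFree (ULift.up m) ≫ B = ofEl (t m) := Sigma.ι_desc _ _
    rw [Category.assoc, hB, el_unit_comp, el_ofEl, el_ofEl]
    rfl
  have hA : T.map f ≫ A' = 0 := by
    rw [← comp_free_id T (T.map f ≫ A')]
    refine Finset.sum_eq_zero fun k _ => ?_
    suffices η.inv ≫ T.map (SheafOfModules.ιFree k) ≫ T.map f ≫ A' = 0 by
      rw [(cancel_epi η.inv).1 (this.trans comp_zero.symm), comp_zero]
    have e : ∀ j, η.inv ≫ T.map (SheafOfModules.ιFree k) ≫ T.map f ≫ T.map (proj j) ≫ η.hom =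
        ofEl ((O.obj.map v.op).hom (co (SheafOfModules.ιFree k ≫ f ≫ proj j))) := fun j => by
      rw [← T.map_comp_assoc, ← T.map_comp_assoc, Category.assoc]
      exact overMap_scalar v _
    have : η.inv ≫ T.map (SheafOfModules.ιFree k) ≫ T.map f ≫ A' =
        ∑ j, ofEl ((O.obj.map v.op).hom (co (SheafOfModules.ιFree k ≫ f ≫ proj j))) ≫ row j := by
      simp only [A', Preadditive.comp_sum, ← e, Category.assoc]
    rw [this]
    simp only [row, Preadditive.comp_sum]
    rw [Finset.sum_comm]
    refine Finset.sum_eq_zero fun m _ => ?_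
    simp only [← Category.assoc, ← Preadditive.sum_comp]
    refine (congrArg (· ≫ SheafOfModules.ιFree (ULift.up m)) (el_injective ?_)).trans zero_comp
    rw [el_sum, el_zero]
    refine Eq.trans (Finset.sum_congr rfl fun j _ => ?_) (ha k m)
    rw [el_unit_comp, el_ofEl, el_ofEl]
    exact mul_comm (G := O.obj.obj (op W)) _ _
  have hTg := CokernelCofork.mapIsColimit _ hg T
  refine ⟨hTg.desc (CokernelCofork.ofπ A' hA), B, ?_⟩
  apply Cofork.IsColimit.hom_ext hTg
  change T.map g ≫ _ ≫ B = T.map g ≫ T.map χ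
  have h₁ : T.map g ≫ hTg.desc (CokernelCofork.ofπ A' hA) = A' :=
    hTg.fac (CokernelCofork.ofπ A' hA) WalkingParallelPair.one
  rw [← Category.assoc, h₁, ← comp_free_id T (T.map g ≫ T.map χ)]
  simp only [A', Preadditive.sum_comp, Category.assoc]
  refine Finset.sum_congr rfl fun j _ => ?_
  rw [hrow j]
  simp [T.map_comp]

end Main

section Global

variable {O : Sheaf J CommRingCat.{u}}


/-- The relations in a finite presentation. -/
lemma sum_el_relation {X : C} {σ ρ : Type u} [Fintype σ]
    {M N : SheafOfModules.{u} ((_root_.ModSite.ringSh O).over X)}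
    (f : SheafOfModules.free (R := (_root_.ModSite.ringSh O).over X) ρ ⟶ SheafOfModules.free σ)
    (g : SheafOfModules.free (R := (_root_.ModSite.ringSh O).over X) σ ⟶ M) (w : f ≫ g = 0) (χ : M ⟶ N) (k : ρ) :
    ∑ j, (show ((_root_.ModSite.ringSh O).over X).obj.obj (op (Over.mk (𝟙 X))) from
        el (SheafOfModules.ιFree k ≫ f ≫ proj j)) •
      el (SheafOfModules.ιFree j ≫ g ≫ χ) = 0 := by
  have h₀ : ∑ j, (SheafOfModules.ιFree k ≫ f ≫ proj j) ≫ SheafOfModules.ιFree j ≫ g ≫ χ = 0 := by
    simp only [Category.assoc]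
    rw [← Preadditive.comp_sum, ← Preadditive.comp_sum]
    simp only [← Category.assoc, ← Preadditive.sum_comp, free_id]
    simp [w]
  have h₁ := congrArg el h₀
  rw [el_sum, el_zero] at h₁
  exact (Finset.sum_congr rfl fun j _ => (el_unit_comp _ _).symm).trans h₁

/-- A map from a module with a finite presentation to a flat module factors locally. -/
theorem exists_cover_factor {X : C} {σ ρ : Type u} [Fintype σ] [Fintype ρ]
    {M : SheafOfModules.{u} ((_root_.ModSite.ringSh O).over X)} {H : _root_.ModSite.Mod O}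
    (hH : Rel.Crit (R := O.obj) J ((ModTensor.Monoidal.G.{u, u, u} O).obj H))
    (f : SheafOfModules.free (R := (_root_.ModSite.ringSh O).over X) ρ ⟶ SheafOfModules.free σ)
    (g : SheafOfModules.free (R := (_root_.ModSite.ringSh O).over X) σ ⟶ M) (w : f ≫ g = 0)
    (hg : IsColimit (CokernelCofork.ofπ g w)) (χ : M ⟶ H.over X) :
    ∃ S ∈ J X, ∀ ⦃W : C⦄ (v : W ⟶ X), S v → ∃ (l : ℕ)
      (A : (SheafOfModules.overMap.{u} (_root_.ModSite.ringSh O) v).obj M ⟶
          SheafOfModules.free (R := (_root_.ModSite.ringSh O).over W) (ULift.{u} (Fin l)))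
      (B : SheafOfModules.free (R := (_root_.ModSite.ringSh O).over W) (ULift.{u} (Fin l)) ⟶
          (SheafOfModules.overMap.{u} (_root_.ModSite.ringSh O) v).obj (H.over X)),
      A ≫ B = (SheafOfModules.overMap.{u} (_root_.ModSite.ringSh O) v).map χ := by
  let eσ := Fintype.equivFin σ
  let eρ := Fintype.equivFin ρ
  let s : Fin (Fintype.card σ) → _root_.ModSite.sect H X := fun j =>
    el (SheafOfModules.ιFree (eσ.symm j) ≫ g ≫ χ)
  let A : Fin (Fintype.card ρ) → Fin (Fintype.card σ) → O.obj.obj (op X) := fun k j =>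
    co (SheafOfModules.ιFree (eρ.symm k) ≫ f ≫ proj (eσ.symm j))
  have hrel : ∀ k, ∑ j, A k j • s j = 0 := fun k => by
    have h₁ := sum_el_relation f g w χ (eρ.symm k)
    rw [← eσ.symm.sum_comp] at h₁
    exact h₁
  refine ⟨_, Rel.trivSieve_mem hH A s hrel, ?_⟩
  rintro W v ⟨l, t, a, hs, ha⟩
  refine ⟨l, exists_factor v f g w hg χ t (fun j => a (eσ j)) (fun j => ?_) (fun k m => ?_)⟩
  · have h₁ := hs (eσ j)
    simp only [s, Equiv.symm_apply_apply] at h₁
    exact h₁
  · refine Eq.trans ?_ (ha (eρ k) m)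
    rw [← eσ.symm.sum_comp]
    simp [A]

variable {F H : _root_.ModSite.Mod O} (φ : F ⟶ H)

/-- `φ` factors through a finite free module over `W`. -/
def Fac (W : C) : Prop :=
  ∃ (n : ℕ) (a : (SheafOfModules.overFunctor.{u} (_root_.ModSite.ringSh O) W).obj F ⟶
        SheafOfModules.free (R := (_root_.ModSite.ringSh O).over W) (ULift.{u} (Fin n)))
    (b : SheafOfModules.free (R := (_root_.ModSite.ringSh O).over W) (ULift.{u} (Fin n)) ⟶
        (SheafOfModules.overFunctor.{u} (_root_.ModSite.ringSh O) W).obj H),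
    a ≫ b = (SheafOfModules.overFunctor.{u} (_root_.ModSite.ringSh O) W).map φ

variable {φ}

lemma fac_of_overMap {W X : C} (v : W ⟶ X) {l : ℕ}
    (A : (SheafOfModules.overMap.{u} (_root_.ModSite.ringSh O) v).obj ((SheafOfModules.overFunctor.{u} (_root_.ModSite.ringSh O) X).obj F) ⟶
        SheafOfModules.free (R := (_root_.ModSite.ringSh O).over W) (ULift.{u} (Fin l)))
    (B : SheafOfModules.free (R := (_root_.ModSite.ringSh O).over W) (ULift.{u} (Fin l)) ⟶
        (SheafOfModules.overMap.{u} (_root_.ModSite.ringSh O) v).obj ((SheafOfModules.overFunctor.{u} (_root_.ModSite.ringSh O) X).obj H))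
    (h : A ≫ B =
      (SheafOfModules.overMap.{u} (_root_.ModSite.ringSh O) v).map ((SheafOfModules.overFunctor.{u} (_root_.ModSite.ringSh O) X).map φ)) :
    Fac φ W := by
  let e := SheafOfModules.overFunctorMap.{u} (_root_.ModSite.ringSh O) v
  refine ⟨l, e.inv.app F ≫ A, B ≫ e.hom.app H, ?_⟩
  rw [Category.assoc, ← Category.assoc A, h]
  exact NatIso.naturality_1 e φ

lemma fac_comp {W Y : C} (u : W ⟶ Y) (h : Fac φ Y) : Fac φ W := by
  obtain ⟨n, a, b, hab⟩ := h
  let T := SheafOfModules.overMap.{u} (_root_.ModSite.ringSh O) u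
  haveI : PreservesColimitsOfSize.{u, u} T := preservesColimits_overMap u
  let i := SheafOfModules.mapFreeIso T (ULift.{u} (Fin n))
    (SheafOfModules.overMapUnitIso (R := (_root_.ModSite.ringSh O)) u).symm
  refine fac_of_overMap u (T.map a ≫ i.inv) (i.hom ≫ T.map b) ?_
  rw [Category.assoc, Iso.inv_hom_id_assoc, ← Functor.map_comp, hab]

/-- Maps from finitely presented modules to flat modules factor locally. -/
theorem exists_sieve_fac [F.IsFinitePresentation] (hH : _root_.ModSite.IsFlat H) (X : C) :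
    ∃ S ∈ J X, ∀ ⦃W : C⦄ (g : W ⟶ X), S g → Fac φ W := by
  obtain ⟨q, hq⟩ := SheafOfModules.IsFinitePresentation.exists_quasicoherentData F
  let S : Sieve X :=
    { arrows := fun W _ => Fac φ W
      downward_closed := fun h v => fac_comp v h }
  refine ⟨S, J.transitive (q.coversTop X) S (fun Y g hg => ?_), fun W g hg => hg⟩
  obtain ⟨i, ⟨v₀⟩⟩ := (Sieve.mem_ofObjects_iff _ _).1 hg
  let P := q.presentation i
  haveI : P.IsFinite := hq.isFinite_presentation i
  haveI : Finite P.generators.I := SheafOfModules.GeneratingSections.IsFiniteType.finite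
  haveI : Finite P.relations.I := SheafOfModules.GeneratingSections.IsFiniteType.finite
  haveI := Fintype.ofFinite P.generators.I
  haveI := Fintype.ofFinite P.relations.I
  obtain ⟨T, hT, h⟩ := exists_cover_factor (Iff.crit_of_isFlat hH) _ P.generators.π _ P.isColimit
    ((SheafOfModules.overFunctor.{u} (_root_.ModSite.ringSh O) (q.X i)).map φ)
  refine J.superset_covering (fun W u hu => ?_) (J.pullback_stable v₀ hT)
  obtain ⟨l, A, B, hAB⟩ := h (u ≫ v₀) hu
  exact fac_of_overMap (u ≫ v₀) A B hAB

end Global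

end Groth.Agent.Lib.FlatCrit.Factor
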